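import Cfsg.Agent.H568.OddPair
import Cfsg.Agent.LThreeB.Asm
import Cfsg.Agent.FastGrp
import Cfsg.Agent.Prune
set_option linter.all false

section
prune_inst 0x7f00000000000000000000000000000000000000000000000000000000000000000000000000000000000000000000000000000000000000000000000000000000000000000000000000000000000000003fffffffffffffffffffffffffffbeffbdffffffff

-- part: H979/CovLift
section
set_option linter.all false
open scoped Cfsg.Agent.FastGrp

/-!
# Lifting commuting elements to a central extension by a group of order 2 (helper979)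

* `lift_comm` : elements commuting modulo a central subgroup of order 2, one of odd order, commute;
* `ncomm_quot` : non-adjacent odd primes of `C(t)/Z` from `C(t)`;
* `four_dvd` : `x` of odd order commuting modulo `Z` with an involution: `4 ∣ |C(x)|`;
* `core_bot` : `O_p(C_X(x)) = 1`, `X = C(t)/Z`, from `O(C_{C(x)/⟨x⟩}(τ)) = 1` for the involutions `τ`.
-/

set_option autoImplicit false

namespace Cfsg.Agent.H979.CovLift

open Subgroup Cfsg
open Cfsg.Agent.LThreeMB (XX Zx)

universe u v

theorem lift_comm {H : Type*} [Group H] {Z : Subgroup H} [Z.Normal] (hZ : Z ≤ center H)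
    (hZ2 : Nat.card ↥Z = 2) {n : ℕ} (hn : Odd n) {x y : H} (hx : x ^ n = 1)
    (hc : (QuotientGroup.mk x : H ⧸ Z) * QuotientGroup.mk y = QuotientGroup.mk y * QuotientGroup.mk x) :
    x * y = y * x := by
  have h1 : x * y * x⁻¹ * y⁻¹ ∈ Z := by
    rw [← QuotientGroup.ker_mk' Z, MonoidHom.mem_ker, map_mul, map_mul, map_mul, map_inv, map_inv]
    show (QuotientGroup.mk x : H ⧸ Z) * QuotientGroup.mk y * (QuotientGroup.mk x)⁻¹ * (QuotientGroup.mk y)⁻¹ = 1
    rw [hc]
    group
  obtain ⟨z, hz⟩ : ∃ z, z = x * y * x⁻¹ * y⁻¹ := ⟨_, rfl⟩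
  rw [← hz] at h1
  have h2 : x * y * x⁻¹ = z * y := by rw [hz]; group
  have hzx : Commute z x := ((mem_center_iff.1 (hZ h1)) x).symm
  have h4 : z ^ 2 = 1 := by
    have h5 : (⟨z, h1⟩ : ↥Z) ^ Nat.card ↥Z = 1 := pow_card_eq_one'
    rw [hZ2] at h5
    exact congrArg Subtype.val h5
  -- `y x⁻¹ y⁻¹ = x⁻¹ z`
  have h3 : y * x⁻¹ * y⁻¹ = x⁻¹ * z := by rw [hz]; group
  have h5 : z ^ n = 1 := by
    have h6 : (y * x⁻¹ * y⁻¹) ^ n = (x⁻¹) ^ n * z ^ n := by
      rw [h3, (hzx.symm.inv_left).mul_pow]
    rw [conj_pow, inv_pow, hx, inv_one, mul_one, mul_inv_cancel, one_mul] at h6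
    exact h6.symm
  have h6 : z = 1 := by
    obtain ⟨m, hm⟩ := hn
    rw [hm, pow_succ, pow_mul, h4, one_pow, one_mul] at h5
    exact h5
  rw [h6, one_mul] at h2
  exact mul_inv_eq_iff_eq_mul.1 h2

theorem exists_lift {H : Type*} [Group H] [Finite H] {Z : Subgroup H} [Z.Normal] (hZ2 : Nat.card ↥Z = 2) {p : ℕ}
    (hp : p.Prime) (hp2 : p ≠ 2) {x : H ⧸ Z} (hx : orderOf x = p) :
    ∃ a : H, orderOf a = p ∧ (QuotientGroup.mk a : H ⧸ Z) = x := by
  have hp' : (Nat.card ↥Z).Coprime p := by
    rw [hZ2]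
    exact (Nat.coprime_primes Nat.prime_two hp).2 (Ne.symm hp2)
  obtain ⟨a, ha, rfl⟩ := BpSpor.Transfer.exists_lift hp Z hp' hx
  exact ⟨a, ha, rfl⟩

section

variable {M : Type u} [Group M] [Finite M] {t : M} {X : Type v} [Group X]
  (h2 : Nat.card ↥(center ↥(centralizer ({t} : Set M))) = 2)

include h2

/-- **non-adjacent odd primes** -/
theorem ncomm_quot (e : ↥(centralizer ({t} : Set M)) ⧸ center ↥(centralizer ({t} : Set M)) ≃* X) {p q : ℕ} (hp : p.Prime) (hq : q.Prime) (hp2 : p ≠ 2) (hq2 : q ≠ 2)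
    (h : ∀ x y : M, orderOf x = p → orderOf y = q → x * t = t * x → y * t = t * y → x * y ≠ y * x) {x y : X}
    (hx : orderOf x = p) (hy : orderOf y = q) : x * y ≠ y * x := by
  intro hc
  obtain ⟨a, ha, ha'⟩ := exists_lift h2 hp hp2 (x := e.symm x) (by rw [MulEquiv.orderOf_eq, hx])
  obtain ⟨b, hb, hb'⟩ := exists_lift h2 hq hq2 (x := e.symm y) (by rw [MulEquiv.orderOf_eq, hy])
  have hab : a * b = b * a := lift_comm le_rfl h2 (hp.odd_of_ne_two hp2) (by rw [← ha, pow_orderOf_eq_one])
    (by rw [ha', hb', ← map_mul, hc, map_mul])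
  exact h a b (by rw [Subgroup.orderOf_coe, ha]) (by rw [Subgroup.orderOf_coe, hb])
    (mem_centralizer_singleton_iff.1 a.2) (mem_centralizer_singleton_iff.1 b.2) (congrArg Subtype.val hab)

/-- **`4` divides `|C(x)|`.** -/
theorem four_dvd (e : ↥(centralizer ({t} : Set M)) ⧸ center ↥(centralizer ({t} : Set M)) ≃* X) {x : ↥(centralizer ({t} : Set M))} {n : ℕ} (hn : Odd n) (hx : x ^ n = 1) {u : X} (hu : orderOf u = 2)
    (hc : e (QuotientGroup.mk x) * u = u * e (QuotientGroup.mk x)) :
    4 ∣ Nat.card ↥(centralizer ({(x : M)} : Set M)) := by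
  set Z := center ↥(centralizer ({t} : Set M)) with hZ
  let W : Subgroup ↥(centralizer ({t} : Set M)) := (zpowers (e.symm u)).comap (QuotientGroup.mk' Z)
  have hWc : Nat.card W = 4 := by
    have h3 : Nat.card W = Nat.card (zpowers (e.symm u)) * Nat.card Z := by
      have h4 := (Subgroup.index_comap_of_surjective (zpowers (e.symm u)) (QuotientGroup.mk'_surjective Z))
      have h5 := W.card_mul_index
      have h6 := (zpowers (e.symm u)).card_mul_index
      have h7 : Nat.card ↥(centralizer ({t} : Set M)) = Nat.card (↥(centralizer ({t} : Set M)) ⧸ Z) * Nat.card Z :=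
        Subgroup.card_eq_card_quotient_mul_card_subgroup Z
      have h8 : W.index = (zpowers (e.symm u)).index := h4
      rw [h8, h7, ← h6, mul_assoc, mul_comm (zpowers (e.symm u)).index, ← mul_assoc] at h5
      exact Nat.eq_of_mul_eq_mul_right (Nat.pos_of_ne_zero Subgroup.index_ne_zero_of_finite) h5
    rw [h3, Nat.card_zpowers, MulEquiv.orderOf_eq, hu, h2]
  have hle : W.map (centralizer ({t} : Set M)).subtype ≤ centralizer ({(x : M)} : Set M) := by
    rintro _ ⟨w, hw, rfl⟩
    rw [mem_centralizer_singleton_iff]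
    obtain ⟨k, hk⟩ := mem_zpowers_iff.1 (Subgroup.mem_comap.1 hw)
    have h3 : (QuotientGroup.mk x : _ ⧸ Z) * QuotientGroup.mk w = QuotientGroup.mk w * QuotientGroup.mk x := by
      have h4 : (QuotientGroup.mk w : _ ⧸ Z) = (e.symm u) ^ k := hk.symm
      rw [h4]
      apply e.injective
      rw [map_mul, map_mul, map_zpow, e.apply_symm_apply]
      exact ((show Commute _ _ from hc).zpow_right k).eq
    exact (congrArg Subtype.val (lift_comm le_rfl h2 hn hx h3)).symm
  have h3 := card_dvd_of_le hle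
  rwa [Nat.card_congr (W.equivMapOfInjective _ (centralizer ({t} : Set M)).subtype_injective).symm.toEquiv, hWc] at h3

/-- **`O_p(C_X(x)) = 1`.** -/
theorem core_bot (e : ↥(centralizer ({t} : Set M)) ⧸ center ↥(centralizer ({t} : Set M)) ≃* X) {r p : ℕ} (hr : r.Prime) (hr2 : r ≠ 2) (hp : p.Prime) (hp2 : p ≠ 2) (hpr : p ≠ r) (ht : orderOf t = 2)
    {x : ↥(centralizer ({t} : Set M))} (hx : orderOf x = r)
    (hY : ∀ τ : XX (x : M), orderOf τ = 2 → centralizerPPrimeCore 2 τ = ⊥) :
    pCore p ↥(centralizer ({e (QuotientGroup.mk x)} : Set X)) = ⊥ := by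
  have hpf : Fact p.Prime := ⟨hp⟩
  have h2f : Fact (Nat.Prime 2) := ⟨Nat.prime_two⟩
  have hXf : Finite X := Finite.of_equiv _ e.toEquiv
  let E : Subgroup M := centralizer ({t} : Set M)
  let Z : Subgroup ↥(centralizer ({t} : Set M)) := center ↥(centralizer ({t} : Set M))
  have hxr : x ^ r = 1 := by rw [← hx, pow_orderOf_eq_one]
  have hxr' : (x : M) ^ r = 1 := congrArg Subtype.val hxr
  let y : X := e (QuotientGroup.mk x)
  let K := pCore p ↥(centralizer ({y} : Set X))
  have hKn : K.Normal := Lib.Cores.pCore_normal p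
  have hKp : IsPGroup p K := Lib.Cores.pCore_isPGroup p
  obtain ⟨n, hn⟩ := IsPGroup.iff_card.1 hKp
  -- the homomorphism `C_E(x) → C_X(y)`
  let CE : Subgroup ↥E := centralizer ({x} : Set ↥E)
  have hmem : ∀ c : CE, e (QuotientGroup.mk (c : ↥E)) ∈ centralizer ({y} : Set X) := by
    intro c
    rw [mem_centralizer_singleton_iff]
    show e _ * e _ = e _ * e _
    rw [← map_mul, ← map_mul]
    congr 1
    exact congrArg (QuotientGroup.mk (s := Z)) (mem_centralizer_singleton_iff.1 c.2)
  let g : CE →* ↥(centralizer ({y} : Set X)) :=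
    ((e.toMonoidHom.comp (QuotientGroup.mk' Z)).comp CE.subtype).codRestrict _ hmem
  have hg : Function.Surjective g := by
    rintro ⟨w, hw⟩
    obtain ⟨c, hc⟩ := QuotientGroup.mk_surjective (e.symm w)
    have h3 : x * c = c * x := by
      refine lift_comm le_rfl h2 (hr.odd_of_ne_two hr2) hxr ?_
      rw [hc]
      apply e.injective
      rw [map_mul, map_mul, e.apply_symm_apply]
      exact (mem_centralizer_singleton_iff.1 hw).symm
    refine ⟨⟨c, mem_centralizer_singleton_iff.2 h3.symm⟩, Subtype.ext ?_⟩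
    show e (QuotientGroup.mk c) = w
    rw [hc, e.apply_symm_apply]
  have hgk : Nat.card g.ker = 2 := by
    rw [← h2]
    refine Nat.card_congr
      { toFun := fun k => ⟨((k : CE) : ↥E), ?_⟩
        invFun := fun k => ⟨⟨k, mem_centralizer_singleton_iff.2 (mem_center_iff.1 k.2 x).symm⟩, ?_⟩
        left_inv := fun k => rfl
        right_inv := fun k => rfl }
    · have h3 : e (QuotientGroup.mk ((k : CE) : ↥E)) = 1 := congrArg Subtype.val (MonoidHom.mem_ker.1 k.2)
      rw [map_eq_one_iff e e.injective] at h3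
      exact (QuotientGroup.eq_one_iff _).1 h3
    · rw [MonoidHom.mem_ker]
      apply Subtype.ext
      show e (QuotientGroup.mk (k : ↥E)) = 1
      rw [(QuotientGroup.eq_one_iff _).2 k.2, map_one]
  -- the preimage
  let W : Subgroup CE := K.comap g
  have hWn : W.Normal := hKn.comap g
  have hWc : Nat.card W = 2 * p ^ n := by
    have h4 : W.index = K.index := Subgroup.index_comap_of_surjective K hg
    have h5 := W.card_mul_index
    have h6 := K.card_mul_index
    have h7 : Nat.card CE = Nat.card ↥(centralizer ({y} : Set X)) * 2 := by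
      rw [Subgroup.card_eq_card_quotient_mul_card_subgroup g.ker, hgk,
        Nat.card_congr (QuotientGroup.quotientKerEquivOfSurjective g hg).toEquiv]
    rw [h4, h7, ← h6, hn, mul_right_comm] at h5
    rw [Nat.eq_of_mul_eq_mul_right (Nat.pos_of_ne_zero Subgroup.index_ne_zero_of_finite) h5, mul_comm]
  -- the Sylow `p`-subgroup of `W` is normal in `CE`
  obtain ⟨S⟩ : Nonempty (Sylow p W) := inferInstance
  have hSc : Nat.card S = p ^ n := by
    rw [S.card_eq_multiplicity, hWc, Nat.factorization_mul (by norm_num) (pow_ne_zero _ hp.ne_zero),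
      Nat.prime_two.factorization, hp.factorization_pow]
    simp [hp2.symm]
  have hSn : ((S : Subgroup W).Normal :) := by
    apply Subgroup.normal_of_index_eq_two
    have h5 := (S : Subgroup W).card_mul_index
    rw [hSc, hWc, mul_comm 2] at h5
    exact Nat.eq_of_mul_eq_mul_left (pow_pos hp.pos n) h5
  have hSch : ((S : Subgroup W).Characteristic :) := S.characteristic_of_normal hSn
  have hTn : (((S : Subgroup W).map W.subtype).Normal :) := inferInstance
  -- the map to `C(x)/⟨x⟩`
  have htx : t * (x : M) = x * t := (mem_centralizer_singleton_iff.1 x.2).symm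
  let tx : ↥(centralizer ({(x : M)} : Set M)) := ⟨t, mem_centralizer_singleton_iff.2 htx⟩
  let τ : XX (x : M) := QuotientGroup.mk tx
  have hZxc : Nat.card ↥(Zx (x : M)) = r := by
    rw [Zx, Nat.card_zpowers]
    exact (Subgroup.orderOf_mk _ _).trans ((Subgroup.orderOf_coe x).trans hx)
  have hcop : (Nat.card ↥(Zx (x : M))).Coprime 2 := by
    rw [hZxc]
    exact (Nat.coprime_primes hr Nat.prime_two).2 hr2
  have htxo : orderOf tx = 2 := by rw [← Subgroup.orderOf_coe]; exact ht
  have hτ : orderOf τ = 2 := LThree.Red.orderOf_mk Nat.prime_two (Zx (x : M)) hcop htxo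
  have hmap := LThree.Red.centralizer_mk Nat.prime_two (Zx (x : M)) hcop htxo
  let i : CE →* ↥(centralizer ({tx} : Set ↥(centralizer ({(x : M)} : Set M)))) :=
    { toFun := fun c => ⟨⟨((c : ↥E) : M), mem_centralizer_singleton_iff.2
        (congrArg Subtype.val (mem_centralizer_singleton_iff.1 c.2))⟩,
        mem_centralizer_singleton_iff.2 (Subtype.ext (mem_centralizer_singleton_iff.1 (c : ↥E).2))⟩
      map_one' := rfl
      map_mul' := fun _ _ => rfl }
  have hi : Function.Surjective i := by
    intro c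
    refine ⟨⟨⟨((c : ↥(centralizer ({(x : M)} : Set M))) : M), mem_centralizer_singleton_iff.2
      (congrArg Subtype.val (mem_centralizer_singleton_iff.1 c.2))⟩,
      mem_centralizer_singleton_iff.2 (Subtype.ext (mem_centralizer_singleton_iff.1 c.1.2))⟩, rfl⟩
  let j : ↥(centralizer ({tx} : Set ↥(centralizer ({(x : M)} : Set M)))) →*
      ↥((centralizer ({tx} : Set ↥(centralizer ({(x : M)} : Set M)))).map (QuotientGroup.mk' (Zx (x : M)))) :=
    (QuotientGroup.mk' (Zx (x : M))).subgroupMap _
  have hj : Function.Surjective j := (QuotientGroup.mk' (Zx (x : M))).subgroupMap_surjective _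
  have hR : ∀ R : Subgroup ↥((centralizer ({tx} : Set ↥(centralizer ({(x : M)} : Set M)))).map
      (QuotientGroup.mk' (Zx (x : M)))), R.Normal → (Nat.card R).Coprime 2 → R = ⊥ := by
    rw [← hmap]
    intro R hRn hRc
    have h3 := Lib.Cores.le_pPrimeCore hRn hRc
    have h4 := hY τ hτ
    rw [centralizerPPrimeCore, Subgroup.map_eq_bot_iff_of_injective _ (Subgroup.subtype_injective _)] at h4
    have h5 : pPrimeCore 2 ↥(centralizer ({(QuotientGroup.mk' (Zx (x : M))) tx} : Set (XX (x : M)))) = ⊥ := h4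
    rw [h5] at h3
    exact eq_bot_iff.2 h3
  have hTj := hR ((((S : Subgroup W).map W.subtype).map (j.comp i) :)) (hTn.map _ (hj.comp hi)) (by
    refine Nat.Coprime.coprime_dvd_left (Subgroup.card_map_dvd _ _) ?_
    rw [Nat.card_congr ((S : Subgroup W).equivMapOfInjective _ W.subtype_injective).symm.toEquiv]
    have h3 : Nat.card S = p ^ n := hSc
    rw [h3]
    exact Nat.Coprime.pow_left n ((Nat.coprime_primes hp Nat.prime_two).2 hp2))
  -- so `S` has order dividing `r`
  have hker : ∀ s ∈ ((S : Subgroup W).map W.subtype :), s ^ r = 1 := by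
    intro s hs
    have h3 : (j.comp i) s = 1 := by
      have h4 : (j.comp i) s ∈ ((S : Subgroup W).map W.subtype).map (j.comp i) := Subgroup.mem_map_of_mem _ hs
      rw [hTj] at h4
      exact Subgroup.mem_bot.1 h4
    have h4 : QuotientGroup.mk' (Zx (x : M)) (i s : ↥(centralizer ({(x : M)} : Set M))) = 1 := congrArg Subtype.val h3
    have h5 : (i s : ↥(centralizer ({(x : M)} : Set M))) ∈ Zx (x : M) := (QuotientGroup.eq_one_iff _).1 h4
    have h6 : (⟨_, h5⟩ : ↥(Zx (x : M))) ^ r = 1 := by
      rw [← hZxc]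
      exact pow_card_eq_one'
    exact Subtype.ext (Subtype.ext (congrArg (fun k : ↥(Zx (x : M)) => ((k : ↥(centralizer ({(x : M)} : Set M))) : M)) h6))
  have hS1 : (S : Subgroup W) = ⊥ := by
    rw [eq_bot_iff]
    intro s hs
    have h3 : (s : CE) ^ r = 1 := hker s (Subgroup.mem_map_of_mem _ hs)
    obtain ⟨k, hk⟩ := S.2 ⟨s, hs⟩
    have hk' : s ^ p ^ k = 1 := congrArg Subtype.val hk
    have h3' : s ^ r = 1 := Subtype.ext h3
    have h4 : orderOf s = 1 :=
      Nat.eq_one_of_dvd_coprimes (Nat.Coprime.pow_left k ((Nat.coprime_primes hp hr).2 hpr))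
        (orderOf_dvd_of_pow_eq_one hk') (orderOf_dvd_of_pow_eq_one h3')
    exact Subgroup.mem_bot.2 (orderOf_eq_one_iff.1 h4)
  have h3 : p ^ n = 1 := by
    rw [← hSc]
    show Nat.card (S : Subgroup W) = 1
    rw [hS1, Subgroup.card_bot]
  rw [h3] at hn
  exact Subgroup.card_eq_one.1 hn

end

end Cfsg.Agent.H979.CovLift

private theorem dce_82d93286620c : _root_.True := by
  try have : _root_.True := by simp only [_root_.Cfsg.centralizerPPrimeCore.eq_1]
  exact _root_.True.intro
end

-- part: H180/TriH/Cover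
section
set_option linter.all false
open scoped Cfsg.Agent.FastGrp

/-!
# Centralizers in `C(t)/Z` (helper180)

`M` a finite group, `t` in `M` with `Z(C(t))` of order 2, `e : C(t)/Z ≃* X`.

* `card_quot` : `|C_M(x) ∩ C_M(t)| = 2 |C_X(e x)|` for `x` in `C(t)` of odd order.
-/

set_option autoImplicit false
open Subgroup

namespace Cfsg.Agent.H180.TH.Baby

open Cfsg.Agent.H979.CovLift

universe u v

section

variable {M : Type u} [Group M] [Finite M] {t : M} {X : Type v} [Group X]
  (h2 : Nat.card ↥(center ↥(centralizer ({t} : Set M))) = 2)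
  (e : ↥(centralizer ({t} : Set M)) ⧸ center ↥(centralizer ({t} : Set M)) ≃* X)

include h2

/-- `|C_M(x) ∩ C_M(t)| = 2 |C_X(e x)|` -/
theorem card_quot {x : ↥(centralizer ({t} : Set M))} {n : ℕ} (hn : Odd n) (hx : x ^ n = 1) :
    Nat.card ↥(centralizer ({(x : M)} : Set M) ⊓ centralizer ({t} : Set M)) =
      Nat.card ↥(centralizer ({e (QuotientGroup.mk x)} : Set X)) * 2 := by
  have hXf : Finite X := Finite.of_equiv _ e.toEquiv
  let E : Subgroup M := centralizer ({t} : Set M)
  let Z : Subgroup ↥(centralizer ({t} : Set M)) := center ↥(centralizer ({t} : Set M))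
  let y : X := e (QuotientGroup.mk x)
  let CE : Subgroup ↥E := centralizer ({x} : Set ↥E)
  have hmem : ∀ c : CE, e (QuotientGroup.mk (c : ↥E)) ∈ centralizer ({y} : Set X) := by
    intro c
    rw [mem_centralizer_singleton_iff]
    show e _ * e _ = e _ * e _
    rw [← map_mul, ← map_mul]
    congr 1
    exact congrArg (QuotientGroup.mk (s := Z)) (mem_centralizer_singleton_iff.1 c.2)
  let g : CE →* ↥(centralizer ({y} : Set X)) :=
    ((e.toMonoidHom.comp (QuotientGroup.mk' Z)).comp CE.subtype).codRestrict _ hmem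
  have hg : Function.Surjective g := by
    rintro ⟨w, hw⟩
    obtain ⟨c, hc⟩ := QuotientGroup.mk_surjective (e.symm w)
    have h3 : x * c = c * x := by
      refine lift_comm le_rfl h2 hn hx ?_
      rw [hc]
      apply e.injective
      rw [map_mul, map_mul, e.apply_symm_apply]
      exact (mem_centralizer_singleton_iff.1 hw).symm
    refine ⟨⟨c, mem_centralizer_singleton_iff.2 h3.symm⟩, Subtype.ext ?_⟩
    show e (QuotientGroup.mk c) = w
    rw [hc, e.apply_symm_apply]
  have hgk : Nat.card g.ker = 2 := by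
    rw [← h2]
    refine Nat.card_congr
      { toFun := fun k => ⟨((k : CE) : ↥E), ?_⟩
        invFun := fun k => ⟨⟨k, mem_centralizer_singleton_iff.2 (mem_center_iff.1 k.2 x).symm⟩, ?_⟩
        left_inv := fun k => rfl
        right_inv := fun k => rfl }
    · have h3 : e (QuotientGroup.mk ((k : CE) : ↥E)) = 1 := congrArg Subtype.val (MonoidHom.mem_ker.1 k.2)
      rw [map_eq_one_iff e e.injective] at h3
      exact (QuotientGroup.eq_one_iff _).1 h3
    · rw [MonoidHom.mem_ker]
      apply Subtype.ext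
      show e (QuotientGroup.mk (k : ↥E)) = 1
      rw [(QuotientGroup.eq_one_iff _).2 k.2, map_one]
  have h7 : Nat.card CE = Nat.card ↥(centralizer ({y} : Set X)) * 2 := by
    rw [Subgroup.card_eq_card_quotient_mul_card_subgroup g.ker, hgk,
      Nat.card_congr (QuotientGroup.quotientKerEquivOfSurjective g hg).toEquiv]
  show _ = Nat.card ↥(centralizer ({y} : Set X)) * 2
  rw [← h7]
  refine Nat.card_congr
    { toFun := fun k => ⟨⟨(k : M), (mem_inf.1 k.2).2⟩, ?_⟩
      invFun := fun k => ⟨((k : ↥E) : M), mem_inf.2 ⟨?_, (k : ↥E).2⟩⟩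
      left_inv := fun k => rfl
      right_inv := fun k => rfl }
  · rw [mem_centralizer_singleton_iff]
    exact Subtype.ext (mem_centralizer_singleton_iff.1 (mem_inf.1 k.2).1)
  · rw [mem_centralizer_singleton_iff]
    exact congrArg Subtype.val (mem_centralizer_singleton_iff.1 k.2)

theorem card_dvd {x : ↥(centralizer ({t} : Set M))} {n : ℕ} (hn : Odd n) (hx : x ^ n = 1) :
    Nat.card ↥(centralizer ({e (QuotientGroup.mk x)} : Set X)) ∣
      Nat.card ↥(centralizer ({(x : M)} : Set M) ⊓ centralizer ({t} : Set M)) := by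
  rw [card_quot h2 e hn hx]
  exact dvd_mul_right _ _

end

end Cfsg.Agent.H180.TH.Baby
end
end
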